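import Cfsg.Agent.S2119
import Cfsg.Agent.Lib.Golay.OutAbs

/-!
# Automorphisms of a group from a double cover of the alternating group of degree eleven

A finite group with an element `A` of prime order, normalised by an element `B` whose powers are an involution `t`
and an element `y` of order eleven, such that the centraliser of `t` is a double cover of `A₁₁`, has only inner
automorphisms as soon as a few elements with explicit relations exist.
-/

set_option autoImplicit false

namespace Cfsg.Agent.Lib.DCE.Ly.Out.Abs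

open Cfsg Cfsg.Agent.Lib.Golay.OutAbs

section perm

/-- A subgroup of prime-to-eleven order normalised by a transitive element is trivial. -/
theorem trivial_of_normalized (H : Subgroup (Equiv.Perm (Fin 11))) (c : Equiv.Perm (Fin 11))
    (hc11 : c ^ 11 = 1) (hc : ∀ j : Fin 11, ∃ k : ℕ, (c ^ k) 0 = j)
    (hnorm : ∀ h ∈ H, c * h * c⁻¹ ∈ H) (h11 : ¬ 11 ∣ Nat.card H) : H = ⊥ := by
  classical
  have hpow : ∀ (k : ℕ), ∀ h ∈ H, c ^ k * h * (c ^ k)⁻¹ ∈ H := by
    intro k
    induction k with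
    | zero => intro h hh; simpa using hh
    | succ k ih =>
      intro h hh
      have h1 := hnorm _ (ih h hh)
      have e : c ^ (k + 1) * h * (c ^ (k + 1))⁻¹ = c * (c ^ k * h * (c ^ k)⁻¹) * c⁻¹ := by
        rw [pow_succ']
        group
      rw [e]
      exact h1
  by_contra hne
  obtain ⟨h, hh, hh1⟩ : ∃ h ∈ H, h ≠ 1 := by
    by_contra hall
    push Not at hall
    apply hne
    rw [eq_bot_iff]
    intro x hx
    exact hall x hx
  -- a point which is moved
  have hex : ∃ p, h p ≠ p := by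
    by_contra hall
    push Not at hall
    exact hh1 (Equiv.ext hall)
  obtain ⟨p, hp⟩ := hex
  -- move it to the origin
  obtain ⟨k, hk⟩ : ∃ k : ℕ, (c ^ k) p = 0 := by
    obtain ⟨k, hk⟩ := hc p
    refine ⟨11 * k - k + 0, ?_⟩
    have h2 : c ^ (11 * k - k) * c ^ k = 1 := by
      rw [← pow_add]
      have : 11 * k - k + k = 11 * k := by omega
      rw [this, pow_mul, hc11, one_pow]
    have h3 : (c ^ (11 * k - k + 0)) p = (c ^ (11 * k - k) * c ^ k) 0 := by
      rw [Equiv.Perm.mul_apply, hk, add_zero]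
    rw [h3, h2]
    rfl
  set g := c ^ k * h * (c ^ k)⁻¹ with hg
  have hgH : g ∈ H := hpow k h hh
  have hg0 : g 0 ≠ 0 := by
    have hinv : ((c ^ k)⁻¹) 0 = p := by
      rw [← hk]
      simp
    rw [hg, Equiv.Perm.mul_apply, Equiv.Perm.mul_apply, hinv, ← hk]
    exact fun e => hp ((c ^ k).injective e)
  obtain ⟨m, hm⟩ := hc (g 0)
  have hm11 : ¬ 11 ∣ m := by
    rintro ⟨n, rfl⟩
    rw [pow_mul, hc11, one_pow] at hm
    exact hg0 hm.symm
  let O : Set (Fin 11) := MulAction.orbit H (0 : Fin 11)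
  have hOm : ∀ z ∈ O, (c ^ m) z ∈ O := by
    rintro z ⟨⟨f, hf⟩, rfl⟩
    refine ⟨⟨(c ^ m * f * (c ^ m)⁻¹) * g, H.mul_mem (hpow m f hf) hgH⟩, ?_⟩
    change ((c ^ m * f * (c ^ m)⁻¹) * g) 0 = (c ^ m) (f 0)
    have hinv : ((c ^ m)⁻¹) (g 0) = 0 := by
      rw [← hm]
      simp
    rw [Equiv.Perm.mul_apply, ← hm, Equiv.Perm.mul_apply, Equiv.Perm.mul_apply, hm, hinv]
  have hOm2 : ∀ (n : ℕ), ∀ z ∈ O, (c ^ (m * n)) z ∈ O := by
    intro n
    induction n with
    | zero => intro z hz; simpa using hz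
    | succ n ih =>
      intro z hz
      rw [Nat.mul_succ, add_comm, pow_add, Equiv.Perm.mul_apply]
      exact hOm _ (ih z hz)
  obtain ⟨n, hn⟩ : ∃ n : ℕ, m * n % 11 = 1 := by
    have hcase : ∀ a : Fin 11, a.1 ≠ 0 → ∃ n : Fin 11, a.1 * n.1 % 11 = 1 := by decide
    have h0 : m % 11 ≠ 0 := fun h => hm11 (Nat.dvd_of_mod_eq_zero h)
    obtain ⟨n, hn⟩ := hcase ⟨m % 11, Nat.mod_lt _ (by norm_num)⟩ h0
    refine ⟨n.1, ?_⟩
    rw [Nat.mul_mod, Nat.mod_eq_of_lt n.2]
    simpa [Nat.mul_mod] using hn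
  have hcO : ∀ z ∈ O, c z ∈ O := by
    intro z hz
    have h1 := hOm2 n z hz
    have h2 : c ^ (m * n) = c := by
      conv_lhs => rw [← Nat.div_add_mod (m * n) 11, hn, pow_add, pow_mul, hc11, one_pow, one_mul, pow_one]
    rwa [h2] at h1
  have hcO2 : ∀ (k : ℕ), ∀ z ∈ O, (c ^ k) z ∈ O := by
    intro k
    induction k with
    | zero => intro z hz; simpa using hz
    | succ k ih =>
      intro z hz
      rw [pow_succ', Equiv.Perm.mul_apply]
      exact hcO _ (ih z hz)
  have hOu : O = Set.univ := by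
    apply Set.eq_univ_of_forall
    intro j
    obtain ⟨k, hk⟩ := hc j
    rw [← hk]
    exact hcO2 k 0 (MulAction.mem_orbit_self 0)
  apply h11
  have h1 : (MulAction.stabilizer H (0 : Fin 11)).index = O.ncard := MulAction.index_stabilizer H (0 : Fin 11)
  have h2 : O.ncard = 11 := by
    rw [hOu, Set.ncard_univ]
    simp
  rw [h2] at h1
  have h3 := Subgroup.index_dvd_card (MulAction.stabilizer H (0 : Fin 11))
  rwa [h1] at h3

/-- A permutation commuting with a transitive element is a power of it. -/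
theorem eq_pow_of_commute (c σ : Equiv.Perm (Fin 11)) (hc : ∀ j : Fin 11, ∃ k : ℕ, (c ^ k) 0 = j)
    (h : σ * c = c * σ) : ∃ j : ℕ, σ = c ^ j := by
  obtain ⟨j, hj⟩ := hc (σ 0)
  refine ⟨j, Equiv.ext fun i => ?_⟩
  obtain ⟨k, rfl⟩ := hc i
  have h1 : Commute σ (c ^ k) := (show Commute σ c from h).pow_right k
  have h2 : σ ((c ^ k) 0) = (c ^ k) (σ 0) := by
    have := congrArg (fun f : Equiv.Perm (Fin 11) => f 0) h1.eq
    simpa [Equiv.Perm.mul_apply] using this
  rw [h2, ← hj]
  have h3 : Commute (c ^ k) (c ^ j) := (Commute.refl c).pow_pow k j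
  have := congrArg (fun f : Equiv.Perm (Fin 11) => f 0) h3.eq
  simpa [Equiv.Perm.mul_apply] using this

end perm

section group

variable {G : Type*} [Group G]

theorem mem_C {t y : G} : y ∈ Subgroup.centralizer ({t} : Set G) ↔ y * t = t * y := by
  rw [Subgroup.mem_centralizer_iff]
  constructor
  · intro h
    exact (h t rfl).symm
  · intro h a ha
    rw [Set.mem_singleton_iff] at ha
    subst ha
    exact h.symm

/-- A central double cover of the alternating group of degree eleven in a centraliser. -/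
structure Cov (t : G) (π : Subgroup.centralizer ({t} : Set G) →* alternatingGroup (Fin 11)) : Prop where
  tsq : t * t = 1
  surj : Function.Surjective π
  ker : ∀ c, π c = 1 ↔ (c : G) = 1 ∨ (c : G) = t
  noidx : ∀ L : Subgroup (Subgroup.centralizer ({t} : Set G)), L.index ≠ 2

/-- The restriction of an automorphism which fixes `t`. -/
def restr {t : G} (α : MulAut G) (h : α t = t) :
    Subgroup.centralizer ({t} : Set G) →* Subgroup.centralizer ({t} : Set G) where
  toFun q := ⟨α q.1, by
    rw [mem_C]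
    have h1 : q.1 * t = t * q.1 := mem_C.1 q.2
    have h2 := congrArg α h1
    rw [map_mul, map_mul, h] at h2
    exact h2⟩
  map_one' := Subtype.ext (map_one α)
  map_mul' a b := Subtype.ext (map_mul α a.1 b.1)

theorem restr_val {t : G} (α : MulAut G) (h : α t = t) (q : Subgroup.centralizer ({t} : Set G)) :
    (restr α h q).1 = α q.1 := rfl

theorem inv_fix {t : G} (α : MulAut G) (h : α t = t) : α⁻¹ t = t := by
  calc α⁻¹ t = α⁻¹ (α t) := by rw [h]
    _ = t := by simp

section lift

variable {t : G} {π : Subgroup.centralizer ({t} : Set G) →* alternatingGroup (Fin 11)}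

/-- The automorphism induced on the quotient. -/
noncomputable def indHom (hC : Cov t π) (α : MulAut G) (h : α t = t) :
    alternatingGroup (Fin 11) →* alternatingGroup (Fin 11) :=
  π.liftOfSurjective hC.surj ⟨π.comp (restr α h), by
    intro c hc
    rw [MonoidHom.mem_ker] at hc ⊢
    have h1 := (hC.ker c).1 hc
    rw [MonoidHom.comp_apply, hC.ker]
    rw [restr_val]
    rcases h1 with h1 | h1
    · left
      rw [h1, map_one]
    · right
      rw [h1, h]⟩

theorem indHom_apply (hC : Cov t π) (α : MulAut G) (h : α t = t) (q : Subgroup.centralizer ({t} : Set G)) :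
    indHom hC α h (π q) = π (restr α h q) :=
  MonoidHom.liftOfRightInverse_comp_apply _ _ _ _ q

/-- The induced automorphism, as an automorphism. -/
noncomputable def indAut (hC : Cov t π) (α : MulAut G) (h : α t = t) : MulAut (alternatingGroup (Fin 11)) :=
  MonoidHom.toMulEquiv (indHom hC α h) (indHom hC α⁻¹ (inv_fix α h))
    (by
      ext1 a
      obtain ⟨q, rfl⟩ := hC.surj a
      rw [MonoidHom.comp_apply, indHom_apply, indHom_apply]
      have e : restr α⁻¹ (inv_fix α h) (restr α h q) = q := Subtype.ext (by simp [restr_val])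
      rw [e]
      rfl)
    (by
      ext1 a
      obtain ⟨q, rfl⟩ := hC.surj a
      rw [MonoidHom.comp_apply, indHom_apply, indHom_apply]
      have e : restr α h (restr α⁻¹ (inv_fix α h) q) = q := Subtype.ext (by simp [restr_val])
      rw [e]
      rfl)

theorem indAut_apply (hC : Cov t π) (α : MulAut G) (h : α t = t) (q : Subgroup.centralizer ({t} : Set G)) :
    indAut hC α h (π q) = π (restr α h q) :=
  indHom_apply hC α h q

/-- An automorphism which fixes `t` and an element whose image is transitive acts on the centraliser as a power of that element. -/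
theorem aut_on_C (hC : Cov t π) (α : MulAut G) (h : α t = t) (y : G) (hy : y ∈ Subgroup.centralizer ({t} : Set G))
    (hαy : α y = y) (hc : ∀ j : Fin 11, ∃ k : ℕ, (((π ⟨y, hy⟩ : alternatingGroup (Fin 11)) : Equiv.Perm (Fin 11)) ^ k) 0 = j) :
    ∃ j : ℕ, ∀ q : G, q ∈ Subgroup.centralizer ({t} : Set G) → α q = y ^ j * q * (y ^ j)⁻¹ := by
  classical
  set Y : Subgroup.centralizer ({t} : Set G) := ⟨y, hy⟩ with hY
  set c : Equiv.Perm (Fin 11) := ((π Y : alternatingGroup (Fin 11)) : Equiv.Perm (Fin 11)) with hcdef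
  obtain ⟨σ, hσ⟩ := (Cfsg.Agent.S2119.result 11 (by norm_num) (by norm_num)).2 (indAut hC α h)
  have hact : ∀ q, ((π (restr α h q) : alternatingGroup (Fin 11)) : Equiv.Perm (Fin 11)) =
      σ * ((π q : alternatingGroup (Fin 11)) : Equiv.Perm (Fin 11)) * σ⁻¹ := by
    intro q
    rw [← indAut_apply hC α h q, ← hσ, MulAut.conjNormal_apply]
  have hfixY : restr α h Y = Y := Subtype.ext hαy
  have hcomm : σ * c = c * σ := by
    have h1 := hact Y
    rw [hfixY] at h1
    have h2 : c = σ * c * σ⁻¹ := h1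
    calc σ * c = σ * c * σ⁻¹ * σ := by group
      _ = c * σ := by rw [← h2]
  obtain ⟨j, hj⟩ := eq_pow_of_commute c σ hc hcomm
  refine ⟨j, ?_⟩
  -- the two maps agree modulo `t`
  have hmod : ∀ q, π (restr α h q) = π (Y ^ j * q * (Y ^ j)⁻¹) := by
    intro q
    apply Subtype.ext
    rw [hact q, hj, map_mul, map_mul, map_inv, map_pow]
    rfl
  have htC : t ∈ Subgroup.centralizer ({t} : Set G) := mem_C.2 rfl
  let T : Subgroup.centralizer ({t} : Set G) := ⟨t, htC⟩
  have hTc : ∀ q : Subgroup.centralizer ({t} : Set G), q * T = T * q := fun q => Subtype.ext (mem_C.1 q.2)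
  have hne : ∀ q, restr α h q = Y ^ j * q * (Y ^ j)⁻¹ ∨ restr α h q = Y ^ j * q * (Y ^ j)⁻¹ * T := by
    intro q
    set u := Y ^ j * q * (Y ^ j)⁻¹
    have h1 : π ((u)⁻¹ * restr α h q) = 1 := by
      rw [map_mul, map_inv, hmod q, inv_mul_cancel]
    rcases (hC.ker _).1 h1 with h2 | h2
    · left
      have h3 : u⁻¹ * restr α h q = 1 := Subtype.ext h2
      exact (inv_mul_eq_one.1 h3).symm
    · right
      have h3 : u⁻¹ * restr α h q = T := Subtype.ext h2
      calc restr α h q = u * (u⁻¹ * restr α h q) := by group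
        _ = u * T := by rw [h3]
  -- the set where they agree
  let g : Subgroup.centralizer ({t} : Set G) →* Subgroup.centralizer ({t} : Set G) :=
    (MulAut.conj (Y ^ j)).toMonoidHom
  have hg : ∀ q, g q = Y ^ j * q * (Y ^ j)⁻¹ := fun q => rfl
  let L : Subgroup (Subgroup.centralizer ({t} : Set G)) := (restr α h).eqLocus g
  have hL : ∀ q, q ∈ L ↔ restr α h q = g q := fun q => Iff.rfl
  have hout : ∀ q, q ∉ L → restr α h q = g q * T := by
    intro q hq
    rcases hne q with h1 | h1
    · exact absurd h1 hq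
    · exact h1
  have hTT : T * T = 1 := Subtype.ext hC.tsq
  have hLtop : L = ⊤ := by
    by_contra hne2
    obtain ⟨a, ha⟩ : ∃ a, a ∉ L := by
      by_contra hall
      push Not at hall
      exact hne2 ((Subgroup.eq_top_iff' L).2 hall)
    apply hC.noidx L
    rw [Subgroup.index_eq_two_iff]
    refine ⟨a, fun b => ?_⟩
    by_cases hb : b ∈ L
    · right
      refine ⟨hb, fun hab => ha ?_⟩
      have : a = b⁻¹ * (b * a) := by group
      rw [this]
      exact L.mul_mem (L.inv_mem hb) hab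
    · left
      refine ⟨?_, hb⟩
      rw [hL, map_mul, map_mul, hout b hb, hout a ha]
      calc g b * T * (g a * T) = g b * g a * (T * T) := by
            rw [mul_assoc (g b) T, ← mul_assoc T, ← hTc (g a)]
            group
        _ = g b * g a := by rw [hTT, mul_one]
  intro q hq
  have h1 : (⟨q, hq⟩ : Subgroup.centralizer ({t} : Set G)) ∈ L := by
    rw [hLtop]
    trivial
  have h2 := congrArg Subtype.val ((hL _).1 h1)
  exact h2

end lift

section finite

variable [Finite G]

/-- A prime dividing the order of a subgroup normalised by an element of that prime order outside it. -/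
theorem sq_dvd_of_normalizes (M : Subgroup G) (y : G) (p : ℕ) [hp : Fact p.Prime] (hy : orderOf y = p)
    (hnorm : ∀ m ∈ M, y * m * y⁻¹ ∈ M) (hy' : y ∉ M) (hM : p ∣ Nat.card M) : p ^ 2 ∣ Nat.card G := by
  classical
  have hyN : y ∈ Subgroup.normalizer (M : Set G) := by
    rw [Subgroup.mem_normalizer_iff]
    have hle : M.map (MulAut.conj y).toMonoidHom ≤ M := by
      rintro _ ⟨m, hm, rfl⟩
      exact hnorm m hm
    have heq : M.map (MulAut.conj y).toMonoidHom = M :=
      Subgroup.eq_of_le_of_card_ge hle (by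
        rw [Subgroup.card_map_of_injective (MulAut.conj y).injective])
    intro h
    constructor
    · exact hnorm h
    · intro hh
      rw [← heq] at hh
      obtain ⟨m, hm, e⟩ := hh
      have e2 : m = h := by
        have e3 : y * m * y⁻¹ = y * h * y⁻¹ := e
        simpa using e3
      rwa [← e2]
  set N := Subgroup.normalizer (M : Set G) with hN
  have hMN : M ≤ N := Subgroup.le_normalizer
  let M' : Subgroup N := M.subgroupOf N
  have : M'.Normal := Subgroup.normal_in_normalizer
  have hcM' : Nat.card M' = Nat.card M := Nat.card_congr (Subgroup.subgroupOfEquivOfLe hMN).toEquiv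
  have h1 : Nat.card N = Nat.card (N ⧸ M') * Nat.card M' := Subgroup.card_eq_card_quotient_mul_card_subgroup M'
  let Y : N := ⟨y, hyN⟩
  let Yb : N ⧸ M' := QuotientGroup.mk Y
  have hYb : orderOf Yb = p := by
    apply orderOf_eq_prime
    · rw [← QuotientGroup.mk_pow]
      have : Y ^ p = 1 := Subtype.ext (by
        change y ^ p = 1
        rw [← hy]
        exact pow_orderOf_eq_one y)
      rw [this]
      rfl
    · intro h
      have h2 : Y ∈ M' := (QuotientGroup.eq_one_iff Y).1 h
      exact hy' (Subgroup.mem_subgroupOf.1 h2)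
  have h2 : p ∣ Nat.card (N ⧸ M') := by
    rw [← hYb]
    exact orderOf_dvd_natCard Yb
  have h3 : p ^ 2 ∣ Nat.card N := by
    rw [h1, pow_two, hcM']
    exact Nat.mul_dvd_mul h2 hM
  exact h3.trans (Subgroup.card_subgroup_dvd_card N)

/-- The centraliser of `A` has no element commuting with `t`. -/
theorem fpf_C {t : G} {π : Subgroup.centralizer ({t} : Set G) →* alternatingGroup (Fin 11)} (hC : Cov t π)
    (A y : G) (hy : y ∈ Subgroup.centralizer ({t} : Set G)) (hoy : orderOf y = 11)
    (hnorm : ∀ m, m * A = A * m → (y * m * y⁻¹) * A = A * (y * m * y⁻¹))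
    (hyA : y * A ≠ A * y) (htA : t * A ≠ A * t) (hsq : ¬ 11 ^ 2 ∣ Nat.card G)
    (hc : ∀ j : Fin 11, ∃ k : ℕ, (((π ⟨y, hy⟩ : alternatingGroup (Fin 11)) : Equiv.Perm (Fin 11)) ^ k) 0 = j) :
    ∀ m, m * A = A * m → m * t = t * m → m = 1 := by
  classical
  have : Fact (Nat.Prime 11) := ⟨by norm_num⟩
  set M : Subgroup G := Subgroup.centralizer ({A} : Set G) with hM
  have hM11 : ¬ 11 ∣ Nat.card M := fun h =>
    hsq (sq_dvd_of_normalizes M y 11 hoy (fun m hm => mem_C.2 (hnorm m (mem_C.1 hm))) (fun h2 => hyA (mem_C.1 h2)) h)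
  let Y : Subgroup.centralizer ({t} : Set G) := ⟨y, hy⟩
  let D' : Subgroup (Subgroup.centralizer ({t} : Set G)) := M.comap (Subgroup.centralizer ({t} : Set G)).subtype
  let F : Subgroup.centralizer ({t} : Set G) →* Equiv.Perm (Fin 11) := (alternatingGroup (Fin 11)).subtype.comp π
  let H : Subgroup (Equiv.Perm (Fin 11)) := D'.map F
  have hH11 : ¬ 11 ∣ Nat.card H := by
    intro h
    have h1 : Nat.card H ∣ Nat.card D' := Subgroup.card_map_dvd D' F
    have h2 : Nat.card D' = Nat.card (D'.map (Subgroup.centralizer ({t} : Set G)).subtype) :=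
      (Subgroup.card_map_of_injective (Subgroup.centralizer ({t} : Set G)).subtype_injective).symm
    have h3 : D'.map (Subgroup.centralizer ({t} : Set G)).subtype ≤ M := by
      rintro _ ⟨d, hd, rfl⟩
      exact hd
    have h4 : Nat.card (D'.map (Subgroup.centralizer ({t} : Set G)).subtype) ∣ Nat.card M := Subgroup.card_dvd_of_le h3
    exact hM11 (h.trans (h1.trans (h2 ▸ h4)))
  have hc11 : (F Y) ^ 11 = 1 := by
    rw [← map_pow]
    have : Y ^ 11 = 1 := Subtype.ext (by
      change y ^ 11 = 1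
      rw [← hoy]
      exact pow_orderOf_eq_one y)
    rw [this, map_one]
  have hbot : H = ⊥ := by
    apply trivial_of_normalized H (F Y) hc11 hc _ hH11
    rintro _ ⟨d, hd, rfl⟩
    refine ⟨Y * d * Y⁻¹, ?_, ?_⟩
    · exact mem_C.2 (hnorm d.1 (mem_C.1 hd))
    · simp only [map_mul, map_inv]
  intro m hm hmt
  have hmC : m ∈ Subgroup.centralizer ({t} : Set G) := mem_C.2 hmt
  have h1 : F ⟨m, hmC⟩ ∈ H := ⟨⟨m, hmC⟩, mem_C.2 hm, rfl⟩
  rw [hbot, Subgroup.mem_bot] at h1
  have h2 : π ⟨m, hmC⟩ = 1 := Subtype.ext h1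
  rcases (hC.ker _).1 h2 with h3 | h3
  · exact h3
  · exfalso
    have h4 : m = t := h3
    rw [h4] at hm
    exact htA hm

/-- Elements of the coset of `B` modulo the centraliser of `A` are conjugate to `B`. -/
theorem conj_of_fpf (A B t : G) (ht : t = B ^ 11) (r r' : ℕ) (hA : A ^ (r * r') = A) (hB : B * A * B⁻¹ = A ^ r)
    (hf : ∀ m, m * A = A * m → m * t = t * m → m = 1) (β : G) (hβ : β * A * β⁻¹ = A ^ r) :
    ∃ g, g * A = A * g ∧ g * B * g⁻¹ = β := by
  classical
  set M : Subgroup G := Subgroup.centralizer ({A} : Set G) with hM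
  have conj_pow' : ∀ (u : G) (k : ℕ), u * A ^ k * u⁻¹ = (u * A * u⁻¹) ^ k := by
    intro u k
    rw [conj_pow]
  have hBi : B⁻¹ * A * B = A ^ r' := by
    have h1 : B * A ^ r' * B⁻¹ = A := by
      rw [conj_pow', hB, ← pow_mul, hA]
    calc B⁻¹ * A * B = B⁻¹ * (B * A ^ r' * B⁻¹) * B := by rw [h1]
      _ = A ^ r' := by group
  have hpow : ∀ (m : G) (k : ℕ), m * A = A * m → m * A ^ k = A ^ k * m := by
    intro m k h
    exact ((show Commute m A from h).pow_right k).eq
  have hBM : ∀ m ∈ M, B * m⁻¹ * B⁻¹ ∈ M := by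
    intro m hm
    have h1 : m⁻¹ ∈ M := M.inv_mem hm
    have h2 : m⁻¹ * A = A * m⁻¹ := mem_C.1 h1
    rw [hM, mem_C]
    have h3 := hpow m⁻¹ r' h2
    calc B * m⁻¹ * B⁻¹ * A = B * m⁻¹ * (B⁻¹ * A * B) * B⁻¹ := by group
      _ = B * (m⁻¹ * A ^ r') * B⁻¹ := by rw [hBi]; group
      _ = B * (A ^ r' * m⁻¹) * B⁻¹ := by rw [h3]
      _ = (B * A ^ r' * B⁻¹) * (B * m⁻¹ * B⁻¹) := by group
      _ = A * (B * m⁻¹ * B⁻¹) := by rw [conj_pow', hB, ← pow_mul, hA]
  let T : M → M := fun g => ⟨g.1 * (B * g.1⁻¹ * B⁻¹), M.mul_mem g.2 (hBM g.1 g.2)⟩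
  have hinj : Function.Injective T := by
    intro g h hgh
    have h1 : g.1 * (B * g.1⁻¹ * B⁻¹) = h.1 * (B * h.1⁻¹ * B⁻¹) := congrArg Subtype.val hgh
    have h2 : g.1 * B * g.1⁻¹ = h.1 * B * h.1⁻¹ := by
      calc g.1 * B * g.1⁻¹ = g.1 * (B * g.1⁻¹ * B⁻¹) * B := by group
        _ = h.1 * (B * h.1⁻¹ * B⁻¹) * B := by rw [h1]
        _ = h.1 * B * h.1⁻¹ := by group
    set m := h.1⁻¹ * g.1 with hm
    have hmB : m * B = B * m := by
      calc m * B = h.1⁻¹ * (g.1 * B * g.1⁻¹) * g.1 := by rw [hm]; group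
        _ = h.1⁻¹ * (h.1 * B * h.1⁻¹) * g.1 := by rw [h2]
        _ = B * m := by rw [hm]; group
    have hmt : m * t = t * m := by
      rw [ht]
      exact ((show Commute m B from hmB).pow_right 11).eq
    have hmM : m ∈ M := M.mul_mem (M.inv_mem h.2) g.2
    have h3 := hf m (mem_C.1 hmM) hmt
    apply Subtype.ext
    have h4 : h.1⁻¹ * g.1 = 1 := h3
    exact (inv_mul_eq_one.1 h4).symm
  have hsurj : Function.Surjective T := Finite.injective_iff_surjective.1 hinj
  have hu : β * B⁻¹ ∈ M := by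
    rw [hM, mem_C]
    have h1 : β * A ^ r' * β⁻¹ = A := by
      rw [conj_pow', hβ, ← pow_mul, hA]
    calc β * B⁻¹ * A = β * (B⁻¹ * A * B) * B⁻¹ := by group
      _ = (β * A ^ r' * β⁻¹) * (β * B⁻¹) := by rw [hBi]; group
      _ = A * (β * B⁻¹) := by rw [h1]
  obtain ⟨g, hg⟩ := hsurj ⟨_, hu⟩
  have h1 : g.1 * (B * g.1⁻¹ * B⁻¹) = β * B⁻¹ := congrArg Subtype.val hg
  refine ⟨g.1, mem_C.1 g.2, ?_⟩
  calc g.1 * B * g.1⁻¹ = g.1 * (B * g.1⁻¹ * B⁻¹) * B := by group
    _ = β * B⁻¹ * B := by rw [h1]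
    _ = β := by group

/-- An automorphism trivial on the centraliser of `t` is conjugation by `t` or trivial. -/
theorem fix_on_C {t : G} {π : Subgroup.centralizer ({t} : Set G) →* alternatingGroup (Fin 11)} (hC : Cov t π)
    (x t' : G) (hx : x * x = 1) (ht' : t' = x * t * x) (htt : t * t' = t' * t) (hne : t' ≠ t)
    (S : Set (Subgroup.centralizer ({t} : Set G))) (hS : ∀ d ∈ S, d.1 * t' = t' * d.1)
    (hperm : ∀ σ : alternatingGroup (Fin 11), (∀ d ∈ S, σ * π d = π d * σ) →
      σ = 1 ∨ σ = π ⟨t', mem_C.2 htt.symm⟩)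
    (hgen : Subgroup.closure ((Subgroup.centralizer ({t} : Set G) : Set G) ∪ {x}) = ⊤)
    (β : MulAut G) (hβ : ∀ q, q ∈ Subgroup.centralizer ({t} : Set G) → β q = q) :
    β ∈ Inn G := by
  classical
  have htsq : t * t = 1 := hC.tsq
  have ht'sq : t' * t' = 1 := by
    rw [ht']
    calc x * t * x * (x * t * x) = x * t * (x * x) * t * x := by group
      _ = x * (t * t) * x := by rw [hx]; group
      _ = 1 := by rw [htsq, mul_one, hx]
  have hxt' : x * t' * x = t := by
    rw [ht']
    calc x * (x * t * x) * x = (x * x) * t * (x * x) := by group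
      _ = t := by rw [hx]; group
  have hxt : x * t * x = t' := ht'.symm
  set bx := β x with hbx
  have hbx2 : bx * bx = 1 := by
    rw [hbx, ← map_mul, hx, map_one]
  set ξ := x * bx with hξ
  have hcomm : ∀ d : G, d * t' = t' * d → d ∈ Subgroup.centralizer ({t} : Set G) → ξ * d = d * ξ := by
    intro d hd hdt
    have h1 : x * d * x ∈ Subgroup.centralizer ({t} : Set G) := by
      rw [mem_C]
      calc x * d * x * t = x * d * (x * t * x) * x := by
            calc x * d * x * t = x * d * (x * x) * x * t := by rw [hx]; group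
              _ = x * d * x * (x * x) * t := by group
              _ = x * d * x * t := by rw [hx]; group
              _ = x * d * (x * t * x) * x⁻¹ := by group
              _ = x * d * (x * t * x) * x := by
                    have : x⁻¹ = x := inv_eq_of_mul_eq_one_left hx
                    rw [this]
        _ = x * (d * t') * x := by rw [hxt]; group
        _ = x * (t' * d) * x := by rw [hd]
        _ = (x * t' * x) * (x * d * x) := by
              calc x * (t' * d) * x = x * t' * 1 * d * x := by group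
                _ = x * t' * (x * x) * d * x := by rw [hx]
                _ = (x * t' * x) * (x * d * x) := by group
        _ = t * (x * d * x) := by rw [hxt']
    have h2 := hβ _ h1
    rw [map_mul, map_mul, hβ d hdt, ← hbx] at h2
    calc ξ * d = x * (bx * d * bx) * bx := by
          rw [hξ]
          calc x * bx * d = x * bx * d * (bx * bx) := by rw [hbx2, mul_one]
            _ = x * (bx * d * bx) * bx := by group
      _ = x * (x * d * x) * bx := by rw [h2]
      _ = (x * x) * d * (x * bx) := by group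
      _ = d * ξ := by rw [hx, one_mul, hξ]
  have hξC : ξ ∈ Subgroup.centralizer ({t} : Set G) :=
    mem_C.2 (hcomm t htt (mem_C.2 rfl))
  let Ξ : Subgroup.centralizer ({t} : Set G) := ⟨ξ, hξC⟩
  have ht'C : t' ∈ Subgroup.centralizer ({t} : Set G) := mem_C.2 htt.symm
  let T' : Subgroup.centralizer ({t} : Set G) := ⟨t', ht'C⟩
  have hπ := hperm (π Ξ) (by
    intro d hd
    rw [← map_mul, ← map_mul]
    congr 1
    exact Subtype.ext (hcomm d.1 (hS d hd) d.2))
  have hbxξ : bx = x * ξ := by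
    rw [hξ, ← mul_assoc, hx, one_mul]
  have hrel : x * ξ * x * ξ = 1 := by
    calc x * ξ * x * ξ = (x * ξ) * (x * ξ) := by group
      _ = bx * bx := by rw [← hbxξ]
      _ = 1 := hbx2
  have hcases : ξ = 1 ∨ ξ = t ∨ ξ = t' ∨ ξ = t * t' := by
    rcases hπ with h | h
    · rcases (hC.ker Ξ).1 h with h1 | h1
      · exact Or.inl h1
      · exact Or.inr (Or.inl h1)
    · have h2 : π (Ξ * T'⁻¹) = 1 := by
        rw [map_mul, map_inv, h, mul_inv_cancel]
      have h0 : (T'⁻¹ : Subgroup.centralizer ({t} : Set G)).1 = t' := by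
        change t'⁻¹ = t'
        exact inv_eq_of_mul_eq_one_left ht'sq
      rcases (hC.ker _).1 h2 with h1 | h1
      · right; right; left
        have h3 : ξ * t' = 1 := by
          have : (Ξ * T'⁻¹).1 = ξ * t' := by
            change ξ * (T'⁻¹ : Subgroup.centralizer ({t} : Set G)).1 = _
            rw [h0]
          rw [← this]
          exact h1
        calc ξ = ξ * (t' * t') := by rw [ht'sq, mul_one]
          _ = (ξ * t') * t' := by group
          _ = t' := by rw [h3, one_mul]
      · right; right; right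
        have h3 : ξ * t' = t := by
          have : (Ξ * T'⁻¹).1 = ξ * t' := by
            change ξ * (T'⁻¹ : Subgroup.centralizer ({t} : Set G)).1 = _
            rw [h0]
          rw [← this]
          exact h1
        calc ξ = ξ * (t' * t') := by rw [ht'sq, mul_one]
          _ = (ξ * t') * t' := by group
          _ = t * t' := by rw [h3]
  -- two automorphisms which agree on the generators
  have hext : ∀ γ : MulAut G, (∀ q, q ∈ Subgroup.centralizer ({t} : Set G) → γ q = q) → γ x = bx → β = γ := by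
    intro γ h1 h2
    have hle : Subgroup.closure ((Subgroup.centralizer ({t} : Set G) : Set G) ∪ {x}) ≤
        (β : G →* G).eqLocus (γ : G →* G) := by
      rw [Subgroup.closure_le]
      rintro z (hz | hz)
      · change β z = γ z
        rw [hβ z hz, h1 z hz]
      · rw [Set.mem_singleton_iff] at hz
        subst hz
        change β z = γ z
        rw [h2]
    rw [hgen] at hle
    ext z
    exact hle (Subgroup.mem_top z)
  rcases hcases with h | h | h | h
  · have h1 : bx = x := by
      rw [hbxξ, h, mul_one]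
    rw [hext 1 (fun q _ => rfl) h1.symm]
    exact Subgroup.one_mem _
  · exfalso
    rw [h, hxt] at hrel
    apply hne
    calc t' = t' * (t * t) := by rw [htsq, mul_one]
      _ = (t' * t) * t := by group
      _ = t := by rw [hrel, one_mul]
  · exfalso
    rw [h, hxt'] at hrel
    apply hne
    calc t' = (t * t) * t' := by rw [htsq, one_mul]
      _ = t * (t * t') := by group
      _ = t := by rw [hrel, mul_one]
  · have h1 : bx = MulAut.conj t x := by
      rw [hbxξ, h, MulAut.conj_apply]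
      have hti : t⁻¹ = t := inv_eq_of_mul_eq_one_left htsq
      rw [hti]
      calc x * (t * t') = x * (t' * t) := by rw [htt]
        _ = x * (x * t * x) * t := by rw [← hxt]; group
        _ = (x * x) * t * x * t := by group
        _ = t * x * t := by rw [hx, one_mul]
    rw [hext (MulAut.conj t) (fun q hq => by
      rw [MulAut.conj_apply]
      have h2 : q * t = t * q := mem_C.1 hq
      rw [← h2]
      group) h1.symm]
    exact ⟨t, rfl⟩

theorem inv67 : ∀ a : Fin 67, a.1 ≠ 0 → ∃ n : Fin 67, a.1 * n.1 % 67 = 1 := by decide +kernel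

/-- The main theorem: every automorphism is inner. -/
theorem inner_of_data {t : G} {π : Subgroup.centralizer ({t} : Set G) →* alternatingGroup (Fin 11)} (hC : Cov t π)
    (A B y x t' : G) (m r r' : ℕ) (hcard : Nat.card G = 67 * m) (hm : ¬ 67 ∣ m) (hsq : ¬ 11 ^ 2 ∣ Nat.card G)
    (hoA : orderOf A = 67) (hrr : r * r' % 67 = 1) (hB : B * A * B⁻¹ = A ^ r) (ht : t = B ^ 11) (hy : y = B ^ 2)
    (hoy : orderOf y = 11) (htA : t * A ≠ A * t) (hyA : y * A ≠ A * y)
    (hyC : y ∈ Subgroup.centralizer ({t} : Set G))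
    (hc : ∀ j : Fin 11, ∃ k : ℕ, (((π ⟨y, hyC⟩ : alternatingGroup (Fin 11)) : Equiv.Perm (Fin 11)) ^ k) 0 = j)
    (hx : x * x = 1) (ht' : t' = x * t * x) (htt : t * t' = t' * t) (hne : t' ≠ t)
    (S : Set (Subgroup.centralizer ({t} : Set G))) (hS : ∀ d ∈ S, d.1 * t' = t' * d.1)
    (hperm : ∀ σ : alternatingGroup (Fin 11), (∀ d ∈ S, σ * π d = π d * σ) →
      σ = 1 ∨ σ = π ⟨t', mem_C.2 htt.symm⟩)
    (hgen : Subgroup.closure ((Subgroup.centralizer ({t} : Set G) : Set G) ∪ {x}) = ⊤)
    (α : MulAut G) : α ∈ Inn G := by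
  classical
  have : Fact (Nat.Prime 67) := ⟨by norm_num⟩
  have hApow : ∀ e : ℕ, e % 67 = 1 → A ^ e = A := by
    intro e he
    rw [← pow_mod_orderOf, hoA, he, pow_one]
  have hA : A ^ (r * r') = A := hApow _ hrr
  have hcp : ∀ (u : G) (k : ℕ), u * A ^ k * u⁻¹ = (u * A * u⁻¹) ^ k := fun u k => by rw [conj_pow]
  have hoαA : orderOf (α A) = 67 := by
    rw [MulEquiv.orderOf_eq, hoA]
  obtain ⟨g, k, hg, hk⟩ := exists_conj_pow 67 m hcard hm A (α A) hoA hoαA
  obtain ⟨k', hk'⟩ : ∃ k', k * k' % 67 = 1 := by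
    have hcase : ∀ a : Fin 67, a.1 ≠ 0 → ∃ n : Fin 67, a.1 * n.1 % 67 = 1 := inv67
    have h0 : k % 67 ≠ 0 := fun h => hk (Nat.dvd_of_mod_eq_zero h)
    obtain ⟨n, hn⟩ := hcase ⟨k % 67, Nat.mod_lt _ (by norm_num)⟩ h0
    refine ⟨n.1, ?_⟩
    rw [Nat.mul_mod, Nat.mod_eq_of_lt n.2]
    simpa [Nat.mul_mod] using hn
  set α₁ : MulAut G := MulAut.conj g * α with hα₁
  have h1A : α₁ A = A ^ k := by
    rw [hα₁, MulAut.mul_apply, MulAut.conj_apply]
    exact hg
  have hβ : α₁ B * A * (α₁ B)⁻¹ = A ^ r := by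
    have h1 : α₁ B * A ^ k * (α₁ B)⁻¹ = (A ^ k) ^ r := by
      have h2 := congrArg α₁ hB
      rw [map_mul, map_mul, map_inv, map_pow, h1A] at h2
      exact h2
    calc α₁ B * A * (α₁ B)⁻¹ = α₁ B * (A ^ k) ^ k' * (α₁ B)⁻¹ := by
          rw [← pow_mul, hApow _ hk']
      _ = (α₁ B * A ^ k * (α₁ B)⁻¹) ^ k' := by rw [conj_pow]
      _ = ((A ^ k) ^ r) ^ k' := by rw [h1]
      _ = (A ^ (k * k')) ^ r := by
          rw [← pow_mul, ← pow_mul, ← pow_mul]
          congr 1
          ring
      _ = A ^ r := by rw [hApow _ hk']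
  have hBi : B⁻¹ * A * B = A ^ r' := by
    have h1 : B * A ^ r' * B⁻¹ = A := by
      rw [hcp, hB, ← pow_mul, hA]
    calc B⁻¹ * A * B = B⁻¹ * (B * A ^ r' * B⁻¹) * B := by rw [h1]
      _ = A ^ r' := by group
  have hyi : y⁻¹ * A * y = A ^ (r' * r') := by
    rw [hy, pow_two]
    calc (B * B)⁻¹ * A * (B * B) = B⁻¹ * (B⁻¹ * A * B) * B := by group
      _ = B⁻¹ * A ^ r' * B := by rw [hBi]
      _ = (B⁻¹ * A * B) ^ r' := by
          have := hcp B⁻¹ r'
          simpa using this
      _ = A ^ (r' * r') := by rw [hBi, pow_mul]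
  have hnorm : ∀ m, m * A = A * m → (y * m * y⁻¹) * A = A * (y * m * y⁻¹) := by
    intro m hm
    have h3 : m * A ^ (r' * r') = A ^ (r' * r') * m := ((show Commute m A from hm).pow_right _).eq
    have h4 : y * A ^ (r' * r') * y⁻¹ = A := by
      rw [← hyi]
      group
    calc y * m * y⁻¹ * A = y * m * (y⁻¹ * A * y) * y⁻¹ := by group
      _ = y * (m * A ^ (r' * r')) * y⁻¹ := by rw [hyi]; group
      _ = y * (A ^ (r' * r') * m) * y⁻¹ := by rw [h3]
      _ = (y * A ^ (r' * r') * y⁻¹) * (y * m * y⁻¹) := by group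
      _ = A * (y * m * y⁻¹) := by rw [h4]
  have hf := fpf_C hC A y hyC hoy hnorm hyA htA hsq hc
  obtain ⟨g₂, hg₂A, hg₂⟩ := conj_of_fpf A B t ht r r' hA hB hf (α₁ B) hβ
  set α₂ : MulAut G := MulAut.conj g₂⁻¹ * α₁ with hα₂
  have h2B : α₂ B = B := by
    rw [hα₂, MulAut.mul_apply, MulAut.conj_apply, ← hg₂]
    group
  have h2t : α₂ t = t := by
    rw [ht, map_pow, h2B]
  have h2y : α₂ y = y := by
    rw [hy, map_pow, h2B]
  obtain ⟨j, hj⟩ := aut_on_C hC α₂ h2t y hyC h2y hc
  set α₃ : MulAut G := MulAut.conj (y ^ j)⁻¹ * α₂ with hα₃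
  have h3 : ∀ q, q ∈ Subgroup.centralizer ({t} : Set G) → α₃ q = q := by
    intro q hq
    rw [hα₃, MulAut.mul_apply, MulAut.conj_apply, hj q hq]
    group
  have h4 : α₃ ∈ Inn G := fix_on_C hC x t' hx ht' htt hne S hS hperm hgen α₃ h3
  have e : α = (MulAut.conj g)⁻¹ * ((MulAut.conj g₂⁻¹)⁻¹ * ((MulAut.conj (y ^ j)⁻¹)⁻¹ * α₃)) := by
    rw [hα₃, hα₂, hα₁]
    group
  rw [e]
  have hI : ∀ u : G, MulAut.conj u ∈ Inn G := fun u => ⟨u, rfl⟩
  exact (Inn G).mul_mem ((Inn G).inv_mem (hI _)) ((Inn G).mul_mem ((Inn G).inv_mem (hI _))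
    ((Inn G).mul_mem ((Inn G).inv_mem (hI _)) h4))

end finite

end group

end Cfsg.Agent.Lib.DCE.Ly.Out.Abs
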