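import Cfsg.Agent.Lib.DCE.Ly.Out.Dat

/-! The checks of the relations between the matrices. -/

namespace Cfsg.Agent.Lib.DCE.Ly.Out.Chk

open Cfsg.Agent.Lib.TC.Core Cfsg.Agent.Lib.TC.Enc Cfsg.Agent.Lib.TC.Pres Cfsg.Agent.Lib.DCE.MatP
  Cfsg.Agent.Lib.DCE.Ly.Exp Cfsg.Agent.Lib.DCE.Ly.Model.Let Cfsg.Agent.Lib.DCE.Ly.Model.Rho
  Cfsg.Agent.Lib.DCE.Ly.Inv.MxT Cfsg.Agent.Lib.DCE.Ly.Inv.MxD Cfsg.Agent.Lib.DCE.Ly.Out.Dat

set_option maxRecDepth 100000

/-- The letters of the table. -/
def lo (c : Nat) : MT := lettM 5 111 Mo c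

/-- The check of an equality of two words in the table. -/
def eqO (a b : List Nat) : Bool :=
  (a.all (fun l => Nat.blt l 13) && b.all (fun l => Nat.blt l 13)) &&
    (prodW 5 111 Mo (idM 111) a == prodW 5 111 Mo (idM 111) b)

theorem hgoodMo : goodT 5 111 Mo = true := by decide +kernel

theorem hlenMo : Mo.length = 13 := rfl

theorem eqO_lt {a b : List Nat} (h : eqO a b = true) : (∀ z ∈ a, z < 13) ∧ ∀ z ∈ b, z < 13 := by
  simp only [eqO, Bool.and_eq_true, List.all_eq_true, beq_iff_eq, Nat.blt_eq] at h
  exact h.1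

theorem eqO_spec {a b : List Nat} (h : eqO a b = true) : (a.map lo).prod = (b.map lo).prod := by
  have hl := eqO_lt h
  simp only [eqO, Bool.and_eq_true, beq_iff_eq] at h
  have h1 := toM_prodW 5 111 (by norm_num) (by norm_num) Mo hgoodMo a (fun z hz => by rw [hlenMo]; exact hl.1 z hz)
    (idM 111) (goodM_idM 5 111 (by norm_num))
  have h2 := toM_prodW 5 111 (by norm_num) (by norm_num) Mo hgoodMo b (fun z hz => by rw [hlenMo]; exact hl.2 z hz)
    (idM 111) (goodM_idM 5 111 (by norm_num))
  rw [h.2, h2, toM_idM, one_mul, one_mul] at h1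
  exact h1.symm

theorem e_bbi : eqO [1, 2] [] = true := by decide +kernel

theorem e_conj : eqO [1, 0, 2] (List.replicate 42 0) = true := by decide +kernel

theorem e_b11 : eqO (List.replicate 11 1) [3] = true := by decide +kernel

theorem e_xx : eqO [4, 4] [] = true := by decide +kernel

theorem e_xtx : eqO [4, 3, 4] [5] = true := by decide +kernel

theorem e_ttp : eqO [3, 5] [5, 3] = true := by decide +kernel

theorem e_tA : eqO [3, 0, 3, 0] [] = true := by decide +kernel

theorem e_d1 : eqO [6, 5] [5, 6] = true := by decide +kernel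

theorem e_d2 : eqO [7, 5] [5, 7] = true := by decide +kernel

theorem e_a : eqO [8, 3] [3, 8] = true := by decide +kernel

theorem e_b : eqO [9, 3] [3, 9] = true := by decide +kernel

theorem e_ctp : eqO [10, 5] [5, 10] = true := by decide +kernel

theorem e_d : eqO [11, 3] [3, 11] = true := by decide +kernel

theorem e_z : eqO [12, 3] [3, 12] = true := by decide +kernel

/-- The letter of the table of a generator of the alternating group. -/
def j2e (j : Nat) : Nat := [0, 1, 5, 6, 7, 8, 9, 10, 11].getD j 0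

/-- The check of the value of a word in the table of the alternating group. -/
def chkT (w G : List Nat) : Bool :=
  w.all (fun l => Nat.blt l 12) && prodW 5 111 Mt (idM 111) w == G

theorem spec_T {w G : List Nat} (h : chkT w G = true) : (∀ z ∈ w, z < 12) ∧ (w.map lt).prod = toM 5 111 G := by
  simp only [chkT, Bool.and_eq_true, List.all_eq_true, beq_iff_eq, Nat.blt_eq] at h
  obtain ⟨h1, h2⟩ := h
  refine ⟨h1, ?_⟩
  have h3 := toM_prodW 5 111 (by norm_num) (by norm_num) Mt hgoodMt w (fun z hz => by rw [hlenMt]; exact h1 z hz)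
    (idM 111) (goodM_idM 5 111 (by norm_num))
  rw [h2, toM_idM, one_mul] at h3
  exact h3.symm

theorem c_B : chkT wB G_B = true := by decide +kernel

theorem c_Tp : chkT (wT.map j2e) G_Tp = true := by decide +kernel

theorem c_D1 : chkT (w1.map j2e) G_D1 = true := by decide +kernel

theorem c_D2 : chkT (w2.map j2e) G_D2 = true := by decide +kernel

theorem c_A : chkWord wA G_A = true := by decide +kernel

theorem c_X : chkWord [8, 4, 2] G_X = true := by decide +kernel

theorem c_T : chkWord [0, 0, 0, 0] Cfsg.Agent.Lib.DCE.Ly.Out.Dat.G_T = true := by decide +kernel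

theorem c_a : chkWord [0] G_a = true := by decide +kernel

theorem c_b : chkWord [1] G_b = true := by decide +kernel

theorem c_c : chkWord [2] G_c = true := by decide +kernel

theorem c_d : chkWord [3] G_d = true := by decide +kernel

theorem c_z : chkWord [5] G_z = true := by decide +kernel

theorem good_A : goodT 5 111 [G_A] = true := by decide +kernel

theorem pow_A : checkW 5 111 [G_A] (List.replicate 67 0) = true := by decide +kernel

theorem ne_A : toM 5 111 G_A ⟨0, by norm_num⟩ ⟨0, by norm_num⟩ ≠ (1 : MT) ⟨0, by norm_num⟩ ⟨0, by norm_num⟩ := by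
  decide +kernel

end Cfsg.Agent.Lib.DCE.Ly.Out.Chk
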