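import Cfsg.Agent.Lib.DCE.A11Cover
import Cfsg.Agent.Lib.DCE.Ly.Out.Abs

/-! An explicit map from the double cover onto the alternating group of degree `11`. -/

set_option autoImplicit false

namespace Cfsg.Agent.Lib.DCE.Ly.Out.Expl

open Cfsg.Agent.Lib.DCE.A11Cover Cfsg.Agent.Lib.TC.Iso

/-- The permutations of the generators. -/
def pp : ℕ → Equiv.Perm (Fin 11)
  | 0 => Equiv.swap 0 1 * Equiv.swap 1 2
  | 1 => Equiv.swap 0 1 * Equiv.swap 2 3
  | 2 => Equiv.swap 0 1 * Equiv.swap 3 4
  | 3 => Equiv.swap 0 1 * Equiv.swap 4 5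
  | 4 => Equiv.swap 0 1 * Equiv.swap 5 6
  | 5 => Equiv.swap 0 1 * Equiv.swap 6 7
  | 6 => Equiv.swap 0 1 * Equiv.swap 7 8
  | 7 => Equiv.swap 0 1 * Equiv.swap 8 9
  | 8 => Equiv.swap 0 1 * Equiv.swap 9 10
  | _ => 1

theorem pp_even (j : ℕ) (hj : j < 9) : pp j ∈ alternatingGroup (Fin 11) := by
  rw [Equiv.Perm.mem_alternatingGroup]
  interval_cases j <;> simp [pp]

theorem pp_r0 (i : Fin (11 - 2)) (hi : i.val = 0) : (pp i.1) ^ 3 = 1 := by
  rw [hi]
  decide +kernel

theorem pp_r1' : ∀ i : Fin 9, 1 ≤ i.val → (pp i.1) ^ 2 = 1 := by decide +kernel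

theorem pp_r1 (i : Fin (11 - 2)) (hi : 1 ≤ i.val) : (pp i.1) ^ 2 = 1 := pp_r1' i hi

theorem pp_r2' : ∀ i j : Fin 9, j.val = i.val + 1 → (pp i.1 * pp j.1) ^ 3 = 1 := by decide +kernel

theorem pp_r2 (i j : Fin (11 - 2)) (h : j.val = i.val + 1) : (pp i.1 * pp j.1) ^ 3 = 1 := pp_r2' i j h

theorem pp_r3' : ∀ i j : Fin 9, i.val + 1 < j.val → (pp i.1 * pp j.1) ^ 2 = 1 := by decide +kernel

theorem pp_r3 (i j : Fin (11 - 2)) (h : i.val + 1 < j.val) : (pp i.1 * pp j.1) ^ 2 = 1 := pp_r3' i j h

theorem pp_ne_one : pp 0 ≠ 1 := by decide +kernel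

section main

variable {G : Type*} [Group G] [Finite G] {t x0 x1 g : G}

/-- The explicit map. -/
theorem exists_pi (D : Data t x0 x1 g) (hcard : Nat.card (Subgroup.centralizer ({t} : Set G)) ≤ 39916800) :
    ∃ π : Subgroup.centralizer ({t} : Set G) →* alternatingGroup (Fin 11), Cfsg.Agent.Lib.DCE.Ly.Out.Abs.Cov t π ∧
      ∀ (j : ℕ) (hj : j < 9) (h : xs x0 x1 g j ∈ Subgroup.centralizer ({t} : Set G)),
        ((π ⟨xs x0 x1 g j, h⟩ : alternatingGroup (Fin 11)) : Equiv.Perm (Fin 11)) = pp j := by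
  classical
  set C := Subgroup.centralizer ({t} : Set G) with hC
  have hmemC : ∀ y : G, y * t = t * y → y ∈ C := by
    intro y hy
    rw [hC, Subgroup.mem_centralizer_iff]
    intro h hh
    rw [Set.mem_singleton_iff] at hh
    subst hh
    exact hy.symm
  let z : C := ⟨t, hmemC t rfl⟩
  have hzne : z ≠ 1 := by
    intro h
    exact D.tne (congrArg Subtype.val h)
  have hzsq : z * z = 1 := Subtype.ext D.tsq
  have hzo : orderOf z = 2 := by
    apply orderOf_eq_prime
    · rw [pow_two]
      exact hzsq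
    · exact hzne
  have hzc : ∀ c : C, c * z = z * c := by
    rintro ⟨c, hc⟩
    apply Subtype.ext
    exact ((Subgroup.mem_centralizer_iff.1 hc) t rfl).symm
  have hZn : (Subgroup.zpowers z).Normal := by
    have hle : Subgroup.zpowers z ≤ Subgroup.center C := by
      rw [Subgroup.zpowers_le, Subgroup.mem_center_iff]
      exact fun c => hzc c
    refine ⟨fun n hn c => ?_⟩
    have h1 := hle hn
    have h2 := Subgroup.mem_center_iff.1 h1 c
    rw [h2]
    simpa using hn
  let Z := Subgroup.zpowers z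
  -- the generators
  let y : ℕ → C := fun i => ⟨xs x0 x1 g i, hmemC _ (D.comm i)⟩
  have hmk : ∀ c : C, (c : G) = 1 ∨ (c : G) = t → (QuotientGroup.mk c : C ⧸ Z) = 1 := by
    intro c hc
    apply (QuotientGroup.eq_one_iff c).2
    rcases hc with hc | hc
    · have : c = 1 := Subtype.ext hc
      rw [this]
      exact Subgroup.one_mem _
    · have : c = z := Subtype.ext hc
      rw [this]
      exact Subgroup.mem_zpowers z
  let f : Fin (11 - 2) → C ⧸ Z := fun i => QuotientGroup.mk (y i.1)
  obtain ⟨e⟩ := Cfsg.Agent.S3335.result 11 (by norm_num)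
  have hrel : ∀ r ∈ ({g : FreeGroup (Fin (11 - 2)) | ∃ i : Fin (11 - 2), i.val = 0 ∧ g = FreeGroup.of i ^ 3} ∪
       {g | ∃ i : Fin (11 - 2), 1 ≤ i.val ∧ g = FreeGroup.of i ^ 2} ∪
       {g | ∃ i j : Fin (11 - 2), j.val = i.val + 1 ∧ g = (FreeGroup.of i * FreeGroup.of j) ^ 3} ∪
       {g | ∃ i j : Fin (11 - 2), i.val + 1 < j.val ∧ g = (FreeGroup.of i * FreeGroup.of j) ^ 2}),
       FreeGroup.lift f r = 1 := by
    rintro r (((⟨i, hi, rfl⟩ | ⟨i, hi, rfl⟩) | ⟨i, j, hj, rfl⟩) | ⟨i, j, hj, rfl⟩)
    · simp only [map_pow, FreeGroup.lift_apply_of]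
      change ((QuotientGroup.mk (y i.1) : C ⧸ Z)) ^ 3 = 1
      rw [← QuotientGroup.mk_pow]
      apply hmk
      left
      rw [hi]
      exact D.r0
    · simp only [map_pow, FreeGroup.lift_apply_of]
      change ((QuotientGroup.mk (y i.1) : C ⧸ Z)) ^ 2 = 1
      rw [← QuotientGroup.mk_pow]
      apply hmk
      right
      obtain ⟨m, hm⟩ : ∃ m, i.val = m + 1 := ⟨i.val - 1, by omega⟩
      rw [hm, pow_two]
      exact D.sq m
    · simp only [map_pow, map_mul, FreeGroup.lift_apply_of]
      change ((QuotientGroup.mk (y i.1) : C ⧸ Z) * QuotientGroup.mk (y j.1)) ^ 3 = 1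
      rw [← QuotientGroup.mk_mul, ← QuotientGroup.mk_pow]
      apply hmk
      rw [hj]
      by_cases hi : i.val = 0
      · left
        rw [hi]
        exact D.r2
      · right
        obtain ⟨m, hm⟩ : ∃ m, i.val = m + 1 := ⟨i.val - 1, by omega⟩
        rw [hm]
        exact D.adj m
    · simp only [map_pow, map_mul, FreeGroup.lift_apply_of]
      change ((QuotientGroup.mk (y i.1) : C ⧸ Z) * QuotientGroup.mk (y j.1)) ^ 2 = 1
      rw [← QuotientGroup.mk_mul, ← QuotientGroup.mk_pow]
      apply hmk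
      right
      have hj2 : j.val < 9 := j.2
      exact D.far i.1 j.1 hj (by omega)
  let F0 := PresentedGroup.toGroup hrel
  let F : alternatingGroup (Fin 11) →* C ⧸ Z := F0.comp e.symm.toMonoidHom
  have hFinj : Function.Injective F := by
    rw [← MonoidHom.ker_eq_bot_iff]
    rcases IsSimpleGroup.eq_bot_or_eq_top_of_normal F.ker (MonoidHom.normal_ker F) with h | h
    · exact h
    · exfalso
      have h1 : F (e (PresentedGroup.of ⟨0, by norm_num⟩)) = 1 := by
        have : e (PresentedGroup.of ⟨0, by norm_num⟩) ∈ F.ker := by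
          rw [h]
          trivial
        exact this
      have h2 : F (e (PresentedGroup.of ⟨0, by norm_num⟩)) = f ⟨0, by norm_num⟩ := by
        change F0 (e.symm (e (PresentedGroup.of ⟨0, by norm_num⟩))) = _
        rw [e.symm_apply_apply]
        exact PresentedGroup.toGroup.of hrel
      rw [h2] at h1
      have h3 : y 0 ∈ Z := (QuotientGroup.eq_one_iff _).1 h1
      have h4 : (y 0 : C) = 1 ∨ (y 0 : C) = z := by
        obtain ⟨k, hk⟩ := Subgroup.mem_zpowers_iff.1 h3
        rcases Int.emod_two_eq_zero_or_one k with hk2 | hk2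
        · left
          rw [← hk, ← Int.mul_ediv_add_emod k 2, hk2, add_zero, zpow_mul]
          have : z ^ (2 : ℤ) = 1 := by
            rw [zpow_two]
            exact hzsq
          rw [this, one_zpow]
        · right
          rw [← hk, ← Int.mul_ediv_add_emod k 2, hk2, zpow_add, zpow_mul]
          have : z ^ (2 : ℤ) = 1 := by
            rw [zpow_two]
            exact hzsq
          rw [this, one_zpow, one_mul, zpow_one]
      have hx0 : x0 = 1 ∨ x0 = t := by
        rcases h4 with h4 | h4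
        · left
          exact congrArg Subtype.val h4
        · right
          exact congrArg Subtype.val h4
      rcases hx0 with h5 | h5
      · -- then `x1 ^ 3 = 1`
        have h6 := D.r2
        rw [h5, one_mul] at h6
        have h7 : x1 ^ 3 = t * x1 := by
          rw [pow_succ, pow_two, D.r1]
        rw [h7] at h6
        have h8 : x1 = t := by
          calc x1 = t * (t * x1) := by rw [← mul_assoc, D.tsq, one_mul]
            _ = t := by rw [h6, mul_one]
        have h9 := D.r1
        rw [h8, D.tsq] at h9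
        exact D.tne h9.symm
      · have h6 := D.r0
        rw [h5, pow_succ, pow_two, D.tsq, one_mul] at h6
        exact D.tne h6
  -- the order
  have hZc : Nat.card Z = 2 := by
    rw [Nat.card_zpowers, hzo]
  have hCq : Nat.card C = 2 * Nat.card (C ⧸ Z) := by
    have h1 := Subgroup.card_mul_index Z
    rw [hZc] at h1
    rw [← h1, Subgroup.index_eq_card]
  have hle : Nat.card (C ⧸ Z) ≤ Nat.card (alternatingGroup (Fin 11)) := by
    rw [card_A11]
    omega
  have hFbij : Function.Bijective F := (Nat.bijective_iff_injective_and_card F).2 ⟨hFinj, le_antisymm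
    (Nat.card_le_card_of_injective F hFinj) hle⟩
  let ψ : alternatingGroup (Fin 11) ≃* C ⧸ Z := MulEquiv.ofBijective F hFbij
  have hCard : 4 < Nat.card C := by
    have h1 := Nat.card_le_card_of_injective F hFinj
    rw [card_A11] at h1
    omega
  -- the explicit map
  let f2 : Fin (11 - 2) → alternatingGroup (Fin 11) := fun i => ⟨pp i.1, pp_even i.1 i.2⟩
  have hrel2 : ∀ r ∈ ({g : FreeGroup (Fin (11 - 2)) | ∃ i : Fin (11 - 2), i.val = 0 ∧ g = FreeGroup.of i ^ 3} ∪
       {g | ∃ i : Fin (11 - 2), 1 ≤ i.val ∧ g = FreeGroup.of i ^ 2} ∪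
       {g | ∃ i j : Fin (11 - 2), j.val = i.val + 1 ∧ g = (FreeGroup.of i * FreeGroup.of j) ^ 3} ∪
       {g | ∃ i j : Fin (11 - 2), i.val + 1 < j.val ∧ g = (FreeGroup.of i * FreeGroup.of j) ^ 2}),
       FreeGroup.lift f2 r = 1 := by
    rintro r (((⟨i, hi, rfl⟩ | ⟨i, hi, rfl⟩) | ⟨i, j, hj, rfl⟩) | ⟨i, j, hj, rfl⟩)
    · simp only [map_pow, FreeGroup.lift_apply_of]
      apply Subtype.ext
      exact pp_r0 i hi
    · simp only [map_pow, FreeGroup.lift_apply_of]
      apply Subtype.ext
      exact pp_r1 i hi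
    · simp only [map_pow, map_mul, FreeGroup.lift_apply_of]
      apply Subtype.ext
      exact pp_r2 i j hj
    · simp only [map_pow, map_mul, FreeGroup.lift_apply_of]
      apply Subtype.ext
      exact pp_r3 i j hj
  let Fz0 := PresentedGroup.toGroup hrel2
  let E2 : alternatingGroup (Fin 11) →* alternatingGroup (Fin 11) := Fz0.comp e.symm.toMonoidHom
  have hE2of : ∀ i : Fin (11 - 2), E2 (e (PresentedGroup.of i)) = f2 i := by
    intro i
    change Fz0 (e.symm (e (PresentedGroup.of i))) = _
    rw [e.symm_apply_apply]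
    exact PresentedGroup.toGroup.of hrel2
  have hE2inj : Function.Injective E2 := by
    rw [← MonoidHom.ker_eq_bot_iff]
    rcases IsSimpleGroup.eq_bot_or_eq_top_of_normal E2.ker (MonoidHom.normal_ker E2) with h | h
    · exact h
    · exfalso
      have h1 : E2 (e (PresentedGroup.of ⟨0, by norm_num⟩)) = 1 := by
        have : e (PresentedGroup.of ⟨0, by norm_num⟩) ∈ E2.ker := by
          rw [h]
          trivial
        exact this
      rw [hE2of] at h1
      exact pp_ne_one (congrArg Subtype.val h1)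
  have hE2surj : Function.Surjective E2 := Finite.injective_iff_surjective.1 hE2inj
  have hψof : ∀ i : Fin (11 - 2), ψ.symm (QuotientGroup.mk (y i.1)) = e (PresentedGroup.of i) := by
    intro i
    apply ψ.injective
    rw [ψ.apply_symm_apply]
    change _ = F0 (e.symm (e (PresentedGroup.of i)))
    rw [e.symm_apply_apply]
    exact (PresentedGroup.toGroup.of hrel).symm
  let π : C →* alternatingGroup (Fin 11) :=
    E2.comp (ψ.symm.toMonoidHom.comp (QuotientGroup.mk' Z))
  have hπapp : ∀ c : C, π c = E2 (ψ.symm (QuotientGroup.mk c)) := fun c => rfl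
  refine ⟨π, ⟨D.tsq, ?_, ?_, ?_⟩, ?_⟩
  · intro a
    obtain ⟨b, rfl⟩ := hE2surj a
    obtain ⟨q, hq⟩ := QuotientGroup.mk_surjective (ψ b)
    refine ⟨q, ?_⟩
    rw [hπapp, hq, ψ.symm_apply_apply]
  · intro c
    constructor
    · intro h
      have h1 : E2 (ψ.symm (QuotientGroup.mk c)) = 1 := h
      have h2 : ψ.symm (QuotientGroup.mk c) = 1 := hE2inj (by rw [h1, map_one])
      have h3 : (QuotientGroup.mk c : C ⧸ Z) = 1 := by
        have := congrArg ψ h2
        rwa [ψ.apply_symm_apply, map_one] at this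
      have h4 : c ∈ Z := (QuotientGroup.eq_one_iff c).1 h3
      obtain ⟨k, hk⟩ := Subgroup.mem_zpowers_iff.1 h4
      rcases Int.emod_two_eq_zero_or_one k with hk2 | hk2
      · left
        have h5 : c = 1 := by
          rw [← hk, ← Int.mul_ediv_add_emod k 2, hk2, add_zero, zpow_mul]
          have : z ^ (2 : ℤ) = 1 := by
            rw [zpow_two]
            exact hzsq
          rw [this, one_zpow]
        exact congrArg Subtype.val h5
      · right
        have h5 : c = z := by
          rw [← hk, ← Int.mul_ediv_add_emod k 2, hk2, zpow_add, zpow_mul]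
          have : z ^ (2 : ℤ) = 1 := by
            rw [zpow_two]
            exact hzsq
          rw [this, one_zpow, one_mul, zpow_one]
        exact congrArg Subtype.val h5
    · intro h
      rw [hπapp, hmk c h, map_one, map_one]
  · exact Cfsg.Agent.Lib.DCE.A11Cover.no_index_two z hzo ψ (y 1) (Subtype.ext D.r1) hCard
  · intro j hj h
    have e1 : (⟨xs x0 x1 g j, h⟩ : C) = y j := rfl
    rw [e1, hπapp]
    have h2 := hψof ⟨j, hj⟩
    have h3 : ψ.symm (QuotientGroup.mk (y j)) = e (PresentedGroup.of ⟨j, hj⟩) := h2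
    rw [h3, hE2of]

end main

end Cfsg.Agent.Lib.DCE.Ly.Out.Expl
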