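import Cfsg.Agent.Lib.DCE.Ly.Out.Chk
import Cfsg.Agent.Lib.DCE.Ly.Out.Expl
import Cfsg.Agent.Lib.DCE.Ly.Inv.MxG

/-! Every automorphism of the Lyons group is inner. -/

namespace Cfsg.Agent.Lib.DCE.Ly.Out.Main

open Cfsg.Agent.Lib.TC.Core Cfsg.Agent.Lib.TC.Enc Cfsg.Agent.Lib.TC.Pres Cfsg.Agent.Lib.DCE.MatP
  Cfsg.Agent.Lib.DCE.Ly.Exp Cfsg.Agent.Lib.DCE.Ly.Setup Cfsg.Agent.Lib.DCE.Ly.Model.Let Cfsg.Agent.Lib.DCE.Ly.Model.Rho
  Cfsg.Agent.Lib.DCE.Ly.Final Cfsg.Agent.Lib.DCE.Ly.Inv.MxT Cfsg.Agent.Lib.DCE.Ly.Inv.MxD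
  Cfsg.Agent.Lib.DCE.Ly.Inv.MxG Cfsg.Agent.Lib.DCE.Ly.Inv.Count
  Cfsg.Agent.Lib.DCE.Ly.Out.Dat Cfsg.Agent.Lib.DCE.Ly.Out.Chk Cfsg.Agent.Lib.DCE.Ly.Out.Expl
  Cfsg.Agent.Lib.DCE.Ly.Out.Abs

set_option maxRecDepth 100000
set_option maxHeartbeats 2000000

/-! ### The elements -/

/-- The element of order `67`. -/
noncomputable def eA : Γ := elt wA

/-- The element of order `22`. -/
noncomputable def eB : Γ := (wB.map ee).prod

/-- The involution which swaps. -/
noncomputable def eX : Γ := elt [8, 4, 2]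

/-- The second involution. -/
noncomputable def tp : Γ := eX * tt * eX

/-- An element commuting with the second involution. -/
noncomputable def D1 : Γ := (w1.map x).prod

/-- An element commuting with the second involution. -/
noncomputable def D2 : Γ := (w2.map x).prod

theorem x_eq_ee (j : Nat) (hj : j < 9) : x j = ee (j2e j) := by
  interval_cases j <;> rfl

theorem rho_chk {w G : List Nat} (h : chkT w G = true) : (rho (w.map ee).prod).val = toM 5 111 G := by
  obtain ⟨h1, h2⟩ := spec_T h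
  rw [rho_list w h1, h2]

theorem map_x (w : List Nat) (hw : ∀ j ∈ w, j < 9) : (w.map x).prod = ((w.map j2e).map ee).prod := by
  induction w with
  | nil => rfl
  | cons j w ih =>
    simp only [List.map_cons, List.prod_cons]
    rw [ih fun z hz => hw z (by simp [hz]), x_eq_ee j (hw j (by simp))]

theorem w1_lt : ∀ j ∈ w1, j < 9 := by decide +kernel

theorem w2_lt : ∀ j ∈ w2, j < 9 := by decide +kernel

theorem wT_lt : ∀ j ∈ wT, j < 9 := by decide +kernel

/-- The elements of the table. -/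
noncomputable def el (c : Nat) : Γ :=
  [eA, eB, eB⁻¹, tt, eX, tp, D1, D2, L 0, L 1, L 2, L 3, L 5].getD c 1

theorem elt_one (c : Nat) (hc : c < 12) : elt [c] = L c := by
  simp [elt, prodA_cons]

theorem v0 : (rho eA).val = lo 0 := rho_elt_of_chk c_A

theorem v1 : (rho eB).val = lo 1 := rho_chk c_B

theorem v2 : (rho eB⁻¹).val = lo 2 := by
  have h := eqO_spec e_bbi
  simp only [List.map_cons, List.map_nil, List.prod_cons, List.prod_nil, mul_one] at h
  rw [map_inv]
  exact Units.inv_eq_of_mul_eq_one_right (by rw [v1]; exact h)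

theorem v3 : (rho tt).val = lo 3 := by
  rw [tt_eq]
  exact rho_elt_of_chk c_T

theorem v4 : (rho eX).val = lo 4 := rho_elt_of_chk c_X

theorem v5 : (rho tp).val = lo 5 := by
  have h := eqO_spec e_xtx
  simp only [List.map_cons, List.map_nil, List.prod_cons, List.prod_nil, mul_one] at h
  rw [tp, map_mul, map_mul, Units.val_mul, Units.val_mul, v4, v3, mul_assoc]
  exact h

theorem v6 : (rho D1).val = lo 6 := by
  rw [D1, map_x w1 w1_lt]
  exact rho_chk c_D1

theorem v7 : (rho D2).val = lo 7 := by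
  rw [D2, map_x w2 w2_lt]
  exact rho_chk c_D2

theorem vL {c : Nat} {G : List Nat} (hc : c < 12) (h : chkWord [c] G = true) : (rho (L c)).val = toM 5 111 G := by
  rw [← elt_one c hc]
  exact rho_elt_of_chk h

theorem hel (c : Nat) (hc : c < 13) : (rho (el c)).val = lo c := by
  interval_cases c
  · exact v0
  · exact v1
  · exact v2
  · exact v3
  · exact v4
  · exact v5
  · exact v6
  · exact v7
  · exact vL (by norm_num) c_a
  · exact vL (by norm_num) c_b
  · exact vL (by norm_num) c_c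
  · exact vL (by norm_num) c_d
  · exact vL (by norm_num) c_z

theorem rho_el (w : List Nat) (hw : ∀ z ∈ w, z < 13) : (rho (w.map el).prod).val = (w.map lo).prod := by
  induction w with
  | nil =>
    simp only [List.map_nil, List.prod_nil, map_one]
    rfl
  | cons c w ih =>
    simp only [List.map_cons, List.prod_cons, map_mul, Units.val_mul]
    rw [ih fun z hz => hw z (by simp [hz]), hel c (hw c (by simp))]

theorem el_eq {a b : List Nat} (h : eqO a b = true) : (a.map el).prod = (b.map el).prod := by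
  have hl := eqO_lt h
  apply rho_inj
  apply Units.ext
  rw [rho_el a hl.1, rho_el b hl.2]
  exact eqO_spec h

/-! ### The relations -/

theorem ht : tt = eB ^ 11 := by
  have h := el_eq e_b11
  simp only [List.map_replicate, List.prod_replicate, List.map_cons, List.map_nil, List.prod_cons, List.prod_nil, mul_one] at h
  exact h.symm

theorem hB : eB * eA * eB⁻¹ = eA ^ 42 := by
  have h := el_eq e_conj
  simp only [List.map_replicate, List.prod_replicate, List.map_cons, List.map_nil, List.prod_cons, List.prod_nil, mul_one] at h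
  rw [mul_assoc]
  exact h

theorem hxx : eX * eX = 1 := by
  have h := el_eq e_xx
  simp only [List.map_cons, List.map_nil, List.prod_cons, List.prod_nil, mul_one] at h
  exact h

theorem htt : tt * tp = tp * tt := by
  have h := el_eq e_ttp
  simp only [List.map_cons, List.map_nil, List.prod_cons, List.prod_nil, mul_one] at h
  exact h

theorem htAt : tt * eA * tt * eA = 1 := by
  have h := el_eq e_tA
  simp only [List.map_cons, List.map_nil, List.prod_cons, List.prod_nil, mul_one] at h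
  simp only [mul_assoc]
  exact h

theorem hD1 : D1 * tp = tp * D1 := by
  have h := el_eq e_d1
  simp only [List.map_cons, List.map_nil, List.prod_cons, List.prod_nil, mul_one] at h
  exact h

theorem hD2 : D2 * tp = tp * D2 := by
  have h := el_eq e_d2
  simp only [List.map_cons, List.map_nil, List.prod_cons, List.prod_nil, mul_one] at h
  exact h

theorem hct : L 2 * tp = tp * L 2 := by
  have h := el_eq e_ctp
  simp only [List.map_cons, List.map_nil, List.prod_cons, List.prod_nil, mul_one] at h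
  exact h

theorem h_a : L 0 * tt = tt * L 0 := by
  have h := el_eq e_a
  simp only [List.map_cons, List.map_nil, List.prod_cons, List.prod_nil, mul_one] at h
  exact h

theorem h_b : L 1 * tt = tt * L 1 := by
  have h := el_eq e_b
  simp only [List.map_cons, List.map_nil, List.prod_cons, List.prod_nil, mul_one] at h
  exact h

theorem h_d : L 3 * tt = tt * L 3 := by
  have h := el_eq e_d
  simp only [List.map_cons, List.map_nil, List.prod_cons, List.prod_nil, mul_one] at h
  exact h

theorem h_z : L 5 * tt = tt * L 5 := by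
  have h := el_eq e_z
  simp only [List.map_cons, List.map_nil, List.prod_cons, List.prod_nil, mul_one] at h
  exact h

theorem tti : tt⁻¹ = tt := inv_eq_of_mul_eq_one_left tt_sq

theorem orderOf_A : orderOf eA = 67 := by
  have h : orderOf (rho eA) = 67 :=
    order_of_word (by norm_num) c_A good_A pow_A _ _ ne_A
  rwa [orderOf_injective rho rho_inj] at h

theorem A_pow_ne {k : Nat} (hk : ¬ 67 ∣ k) : eA ^ k ≠ 1 := by
  intro h
  apply hk
  rw [← orderOf_A]
  exact orderOf_dvd_of_pow_eq_one h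

theorem htA : tt * eA ≠ eA * tt := by
  intro h
  have h1 := htAt
  rw [h, mul_assoc eA, tt_sq, mul_one] at h1
  exact A_pow_ne (k := 2) (by norm_num) (by rw [pow_two]; exact h1)

theorem hB22 : eB ^ 22 = 1 := by
  have h : eB ^ 22 = tt * tt := by
    rw [ht, ← pow_add]
  rw [h, tt_sq]

theorem hy_ne : eB ^ 2 ≠ 1 := by
  intro h
  have h1 : eB ^ 11 = eB := by
    calc eB ^ 11 = (eB ^ 2) ^ 5 * eB := by rw [← pow_mul, ← pow_succ]
      _ = eB := by rw [h, one_pow, one_mul]
  have h2 : tt = eB := ht.trans h1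
  have h3 := hB
  rw [← h2, tti] at h3
  have h4 : eA ^ 43 = 1 := by
    have h5 := htAt
    rw [h3] at h5
    rw [pow_succ]
    exact h5
  exact A_pow_ne (k := 43) (by norm_num) h4

theorem orderOf_y : orderOf (eB ^ 2) = 11 := by
  haveI : Fact (Nat.Prime 11) := ⟨by norm_num⟩
  apply orderOf_eq_prime _ hy_ne
  rw [← pow_mul]
  exact hB22

theorem hyA : eB ^ 2 * eA ≠ eA * eB ^ 2 := by
  intro h
  have h1 : eB ^ 2 * eA * (eB ^ 2)⁻¹ = eA := by
    rw [h, mul_inv_cancel_right]
  have h2 : eB ^ 2 * eA * (eB ^ 2)⁻¹ = eA ^ (42 * 42) := by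
    calc eB ^ 2 * eA * (eB ^ 2)⁻¹ = eB * (eB * eA * eB⁻¹) * eB⁻¹ := by
          rw [pow_two]
          group
      _ = eB * eA ^ 42 * eB⁻¹ := by rw [hB]
      _ = (eB * eA * eB⁻¹) ^ 42 := by rw [conj_pow]
      _ = eA ^ (42 * 42) := by rw [hB, pow_mul]
  have h3 : eA ^ (42 * 42) = eA ^ (1763 + 1) := rfl
  rw [h2, h3, pow_succ] at h1
  exact A_pow_ne (k := 1763) (by norm_num) (by simpa using h1)

/-! ### The cover -/

theorem hyC : eB ^ 2 ∈ Subgroup.centralizer ({tt} : Set Γ) := by
  rw [mem_C, ht]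
  exact ((Commute.refl eB).pow_pow 2 11).eq

theorem xmem (j : Nat) : x j ∈ Subgroup.centralizer ({tt} : Set Γ) :=
  mem_C.2 (data.comm j)

/-- The product of the generators in the centraliser. -/
theorem pi_list (π : Subgroup.centralizer ({tt} : Set Γ) →* alternatingGroup (Fin 11))
    (hπ : ∀ (j : ℕ) (hj : j < 9) (h : x j ∈ Subgroup.centralizer ({tt} : Set Γ)),
        ((π ⟨x j, h⟩ : alternatingGroup (Fin 11)) : Equiv.Perm (Fin 11)) = pp j)
    (w : List Nat) (hw : ∀ j ∈ w, j < 9) (h : (w.map x).prod ∈ Subgroup.centralizer ({tt} : Set Γ)) :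
    ((π ⟨(w.map x).prod, h⟩ : alternatingGroup (Fin 11)) : Equiv.Perm (Fin 11)) = (w.map pp).prod := by
  induction w with
  | nil =>
    have e : (⟨([] : List Nat).map x |>.prod, h⟩ : Subgroup.centralizer ({tt} : Set Γ)) = 1 := rfl
    rw [e, map_one]
    rfl
  | cons j w ih =>
    have h2 : (w.map x).prod ∈ Subgroup.centralizer ({tt} : Set Γ) :=
      Subgroup.list_prod_mem _ (by
        intro y hy
        obtain ⟨k, _, rfl⟩ := List.mem_map.1 hy
        exact xmem k)
    have e : (⟨((j :: w).map x).prod, h⟩ : Subgroup.centralizer ({tt} : Set Γ)) =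
        ⟨x j, xmem j⟩ * ⟨(w.map x).prod, h2⟩ := by
      apply Subtype.ext
      simp
    rw [e, map_mul, Subgroup.coe_mul, hπ j (hw j (by simp)) (xmem j), ih (fun z hz => hw z (by simp [hz])) h2]
    simp

/-- The tables of the permutations. -/
def P1t : Fin 11 → Fin 11 := ![1, 2, 8, 6, 0, 4, 3, 5, 9, 7, 10]

/-- The tables of the permutations. -/
def P2t : Fin 11 → Fin 11 := ![1, 0, 2, 3, 8, 5, 10, 9, 4, 7, 6]

/-- The table of the involution. -/
def Pt : Fin 11 → Fin 11 := ![9, 7, 5, 3, 8, 2, 6, 1, 4, 0, 10]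

theorem P1_eq : ∀ i, (w1.map pp).prod i = P1t i := by decide +kernel

theorem P2_eq : ∀ i, (w2.map pp).prod i = P2t i := by decide +kernel

theorem P_eq : ∀ i, (wT.map pp).prod i = Pt i := by decide +kernel

/-- The permutation with the given images of `0` and `3`. -/
def fF (u v : Fin 11) : Fin 11 → Fin 11 := fun i =>
  match i.1 with
  | 0 => u
  | 1 => P1t u
  | 2 => P1t (P1t u)
  | 8 => P1t (P1t (P1t u))
  | 9 => P1t (P1t (P1t (P1t u)))
  | 7 => P1t (P1t (P1t (P1t (P1t u))))
  | 5 => P1t (P1t (P1t (P1t (P1t (P1t u)))))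
  | 4 => P1t (P1t (P1t (P1t (P1t (P1t (P1t u))))))
  | 3 => v
  | 6 => P1t v
  | _ => P2t (P1t v)

theorem fF_key : ∀ u v : Fin 11, (∀ i, fF u v (P1t i) = P1t (fF u v i)) → (∀ i, fF u v (P2t i) = P2t (fF u v i)) →
    (∀ i, fF u v i = i) ∨ (∀ i, fF u v i = Pt i) := by decide +kernel

/-- The centraliser of the two permutations. -/
theorem cent (σ : Equiv.Perm (Fin 11)) (h1 : σ * (w1.map pp).prod = (w1.map pp).prod * σ)
    (h2 : σ * (w2.map pp).prod = (w2.map pp).prod * σ) : σ = 1 ∨ σ = (wT.map pp).prod := by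
  have e1 : ∀ i, σ (P1t i) = P1t (σ i) := by
    intro i
    have := congrArg (fun f : Equiv.Perm (Fin 11) => f i) h1
    simpa only [Equiv.Perm.mul_apply, P1_eq] using this
  have e2 : ∀ i, σ (P2t i) = P2t (σ i) := by
    intro i
    have := congrArg (fun f : Equiv.Perm (Fin 11) => f i) h2
    simpa only [Equiv.Perm.mul_apply, P2_eq] using this
  have hσ : ∀ i, σ i = fF (σ 0) (σ 3) i := by
    have a1 : σ 1 = P1t (σ 0) := e1 0
    have a2 : σ 2 = P1t (σ 1) := e1 1
    have a8 : σ 8 = P1t (σ 2) := e1 2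
    have a9 : σ 9 = P1t (σ 8) := e1 8
    have a7 : σ 7 = P1t (σ 9) := e1 9
    have a5 : σ 5 = P1t (σ 7) := e1 7
    have a4 : σ 4 = P1t (σ 5) := e1 5
    have a6 : σ 6 = P1t (σ 3) := e1 3
    have a10 : σ 10 = P2t (σ 6) := e2 6
    intro i
    fin_cases i
    · rfl
    · exact a1
    · show σ 2 = fF (σ 0) (σ 3) 2
      rw [a2, a1]
      rfl
    · rfl
    · show σ 4 = fF (σ 0) (σ 3) 4
      rw [a4, a5, a7, a9, a8, a2, a1]
      rfl
    · show σ 5 = fF (σ 0) (σ 3) 5
      rw [a5, a7, a9, a8, a2, a1]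
      rfl
    · exact a6
    · show σ 7 = fF (σ 0) (σ 3) 7
      rw [a7, a9, a8, a2, a1]
      rfl
    · show σ 8 = fF (σ 0) (σ 3) 8
      rw [a8, a2, a1]
      rfl
    · show σ 9 = fF (σ 0) (σ 3) 9
      rw [a9, a8, a2, a1]
      rfl
    · show σ 10 = fF (σ 0) (σ 3) 10
      rw [a10, a6]
      rfl
  have hk := fF_key (σ 0) (σ 3) (fun i => by rw [← hσ, ← hσ, e1]) (fun i => by rw [← hσ, ← hσ, e2])
  rcases hk with h | h
  · left
    exact Equiv.ext fun i => (hσ i).trans (h i)
  · right
    exact Equiv.ext fun i => by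
      rw [hσ i, h i, P_eq]

/-- A permutation of order eleven is transitive. -/
theorem transitive_of_order (c : Equiv.Perm (Fin 11)) (hc : orderOf c = 11) : ∀ j : Fin 11, ∃ k : ℕ, (c ^ k) 0 = j := by
  classical
  have h1 : c.IsCycle := Equiv.Perm.isCycle_of_prime_order' (by rw [hc]; norm_num) (by rw [hc]; simp)
  have h2 : c.support.card = 11 := by
    rw [← h1.orderOf, hc]
  have h3 : c.support = Finset.univ := Finset.eq_univ_of_card _ (by simpa using h2)
  have h4 : ∀ i, c i ≠ i := fun i => Equiv.Perm.mem_support.1 (by rw [h3]; exact Finset.mem_univ i)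
  intro j
  exact h1.exists_pow_eq (h4 0) (h4 j)

/-- All automorphisms are inner. -/
theorem main (α : MulAut Γ) : α ∈ Cfsg.Inn Γ := by
  classical
  obtain ⟨π, hC, hπ⟩ := exists_pi data card_C_le
  have hπ' : ∀ (j : ℕ) (hj : j < 9) (h : x j ∈ Subgroup.centralizer ({tt} : Set Γ)),
      ((π ⟨x j, h⟩ : alternatingGroup (Fin 11)) : Equiv.Perm (Fin 11)) = pp j := hπ
  have htpw : tp = (wT.map x).prod := by
    apply rho_inj
    apply Units.ext
    rw [v5, map_x wT wT_lt]
    exact (rho_chk c_Tp).symm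
  have htpC : tp ∈ Subgroup.centralizer ({tt} : Set Γ) := mem_C.2 htt.symm
  have hπtp : ((π ⟨tp, htpC⟩ : alternatingGroup (Fin 11)) : Equiv.Perm (Fin 11)) = (wT.map pp).prod := by
    have h1 : (wT.map x).prod ∈ Subgroup.centralizer ({tt} : Set Γ) := htpw ▸ htpC
    have e : (⟨tp, htpC⟩ : Subgroup.centralizer ({tt} : Set Γ)) = ⟨(wT.map x).prod, h1⟩ := Subtype.ext htpw
    rw [e]
    exact pi_list π hπ' wT wT_lt h1
  have hne : tp ≠ tt := by
    intro h
    have h1 : π ⟨tp, htpC⟩ = 1 := (hC.ker _).2 (Or.inr h)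
    rw [h1] at hπtp
    have h2 : ((1 : alternatingGroup (Fin 11)) : Equiv.Perm (Fin 11)) 0 = (wT.map pp).prod 0 :=
      congrArg (fun f : Equiv.Perm (Fin 11) => f 0) hπtp
    rw [P_eq] at h2
    exact absurd h2 (by decide)
  have hD1C : D1 ∈ Subgroup.centralizer ({tt} : Set Γ) := Subgroup.list_prod_mem _ (by
    intro y hy
    obtain ⟨k, _, rfl⟩ := List.mem_map.1 hy
    exact xmem k)
  have hD2C : D2 ∈ Subgroup.centralizer ({tt} : Set Γ) := Subgroup.list_prod_mem _ (by
    intro y hy
    obtain ⟨k, _, rfl⟩ := List.mem_map.1 hy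
    exact xmem k)
  have hoY : orderOf (π ⟨eB ^ 2, hyC⟩) = 11 := by
    haveI : Fact (Nat.Prime 11) := ⟨by norm_num⟩
    apply orderOf_eq_prime
    · rw [← map_pow]
      have : (⟨eB ^ 2, hyC⟩ : Subgroup.centralizer ({tt} : Set Γ)) ^ 11 = 1 := by
        apply Subtype.ext
        change (eB ^ 2) ^ 11 = 1
        rw [← pow_mul]
        exact hB22
      rw [this, map_one]
    · intro h
      rcases (hC.ker _).1 h with h1 | h1
      · exact hy_ne h1
      · have h2 := orderOf_y
        have h3 : eB ^ 2 = tt := h1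
        rw [h3, orderOf_tt] at h2
        norm_num at h2
  have hc : ∀ j : Fin 11, ∃ k : ℕ, (((π ⟨eB ^ 2, hyC⟩ : alternatingGroup (Fin 11)) : Equiv.Perm (Fin 11)) ^ k) 0 = j :=
    transitive_of_order _ (by rw [Subgroup.orderOf_coe, hoY])
  -- generation
  set KK := Subgroup.closure ((Subgroup.centralizer ({tt} : Set Γ) : Set Γ) ∪ {eX}) with hKK
  have hCK : ∀ q, q ∈ Subgroup.centralizer ({tt} : Set Γ) → q ∈ KK := fun q hq =>
    Subgroup.subset_closure (Or.inl hq)
  have hXK : eX ∈ KK := Subgroup.subset_closure (Or.inr rfl)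
  have hL2 : L 2 ∈ KK := by
    have h1 : eX * L 2 * eX ∈ Subgroup.centralizer ({tt} : Set Γ) := by
      rw [mem_C]
      have hxtp : eX * tp * eX = tt := by
        rw [tp]
        calc eX * (eX * tt * eX) * eX = (eX * eX) * tt * (eX * eX) := by group
          _ = tt := by rw [hxx]; group
      calc eX * L 2 * eX * tt = eX * L 2 * eX * (eX * tp * eX) := by rw [hxtp]
        _ = eX * L 2 * (eX * eX) * tp * eX := by group
        _ = eX * (L 2 * tp) * eX := by rw [hxx]; group
        _ = eX * (tp * L 2) * eX := by rw [hct]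
        _ = (eX * tp) * (eX * eX) * L 2 * eX := by rw [hxx]; group
        _ = (eX * tp * eX) * (eX * L 2 * eX) := by group
        _ = tt * (eX * L 2 * eX) := by rw [hxtp]
    have h2 : L 2 = eX * (eX * L 2 * eX) * eX := by
      calc L 2 = (eX * eX) * L 2 * (eX * eX) := by rw [hxx]; group
        _ = eX * (eX * L 2 * eX) * eX := by group
    rw [h2]
    exact KK.mul_mem (KK.mul_mem hXK (hCK _ h1)) hXK
  have hL4 : L 4 ∈ KK := by
    have h8 : L 8 = (L 2)⁻¹ := L_inv 2 (by norm_num)
    have h1 : eX = (L 2)⁻¹ * L 4 * L 2 := by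
      rw [← h8]
      simp [eX, elt, prodA_cons]
    have h3 : L 4 = L 2 * eX * (L 2)⁻¹ := by
      rw [h1]
      group
    rw [h3]
    exact KK.mul_mem (KK.mul_mem hL2 hXK) (KK.inv_mem hL2)
  have hLlow : ∀ c, c < 6 → L c ∈ KK := by
    intro c hc
    interval_cases c
    · exact hCK _ (mem_C.2 h_a)
    · exact hCK _ (mem_C.2 h_b)
    · exact hL2
    · exact hCK _ (mem_C.2 h_d)
    · exact hL4
    · exact hCK _ (mem_C.2 h_z)
  have hgen : KK = ⊤ := by
    rw [eq_top_iff, ← closure_L, Subgroup.closure_le]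
    rintro _ ⟨c, hc, rfl⟩
    have hc' : c < 12 := hc
    by_cases h6 : c < 6
    · exact hLlow c h6
    · have h7 : c - 6 < 12 := by omega
      have h8 := L_inv (c - 6) h7
      have h9 : inv12 (c - 6) = c := by
        have : ∀ c, c < 12 → 6 ≤ c → inv12 (c - 6) = c := by decide +kernel
        exact this c hc' (by omega)
      rw [h9] at h8
      rw [h8]
      exact KK.inv_mem (hLlow _ (by omega))
  have hcard : Nat.card Γ = 67 * 772614612000000 := by
    rw [card_G]
  refine inner_of_data hC eA eB (eB ^ 2) eX tp 772614612000000 42 8 hcard (by norm_num)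
    (by rw [card_G]; norm_num) orderOf_A (by norm_num) hB ht rfl orderOf_y htA hyA hyC hc hxx rfl htt hne
    {⟨D1, hD1C⟩, ⟨D2, hD2C⟩} ?_ ?_ hgen α
  · rintro d (rfl | rfl)
    · exact hD1
    · exact hD2
  · intro σ hσ
    have h1 := hσ ⟨D1, hD1C⟩ (Or.inl rfl)
    have h2 := hσ ⟨D2, hD2C⟩ (Or.inr rfl)
    have h3 := congrArg Subtype.val h1
    have h4 := congrArg Subtype.val h2
    have hv1 : ((π ⟨D1, hD1C⟩ : alternatingGroup (Fin 11)) : Equiv.Perm (Fin 11)) = (w1.map pp).prod :=
      pi_list π hπ' w1 w1_lt hD1C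
    have hv2 : ((π ⟨D2, hD2C⟩ : alternatingGroup (Fin 11)) : Equiv.Perm (Fin 11)) = (w2.map pp).prod :=
      pi_list π hπ' w2 w2_lt hD2C
    rw [Subgroup.coe_mul, Subgroup.coe_mul, hv1] at h3
    rw [Subgroup.coe_mul, Subgroup.coe_mul, hv2] at h4
    rcases cent σ.1 h3 h4 with h | h
    · left
      exact Subtype.ext h
    · right
      apply Subtype.ext
      rw [h, hπtp]

end Cfsg.Agent.Lib.DCE.Ly.Out.Main
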